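import Groth.Prelude.Def_CurvBase
import Groth.Prelude.Def_CohB1
import Groth.Agent.Lib.QCoh.Affine

/-!
# Weakly associated points of quasi-coherent modules, computed on affine opens
-/

universe u

open CategoryTheory AlgebraicGeometry Opposite

namespace GrothLib.WeakAss

variable {X : Scheme.{u}} {F : X.Modules}

lemma isAssPoint_iff_isWeakAssPoint (x : X) :
    Curv2.IsAssPoint F x ↔ Curv2.IsWeakAssPoint F x := by
  have e : ∀ m : F.presheaf.stalk x,
      (⊥ : Submodule (X.presheaf.stalk x) (F.presheaf.stalk x)).colon {m} =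
        LinearMap.ker (LinearMap.toSpanSingleton (X.presheaf.stalk x) (F.presheaf.stalk x) m) := by
    intro m
    ext r
    simp [Submodule.mem_colon_singleton, LinearMap.mem_ker]
  constructor
  · rintro ⟨-, m, hm⟩
    exact ⟨m, by rw [hm, e]⟩
  · rintro ⟨m, hm⟩
    exact ⟨Ideal.IsMaximal.isPrime inferInstance, m, by rw [e]; exact hm.symm⟩

lemma germ_smul {V : X.Opens} {x : X} (hx : x ∈ V) (a : Γ(X, V)) (z : Γ(F, V)) :
    F.presheaf.germ V x hx (a • z) = X.presheaf.germ V x hx a • F.presheaf.germ V x hx z :=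
  PresheafOfModules.germ_smul _ x V hx a z

/-- The prime of `Γ(X, V)` of a point `x ∈ V`. -/
noncomputable def primeAt {V : X.Opens} (x : X) (hx : x ∈ V) : Ideal Γ(X, V) :=
  (IsLocalRing.maximalIdeal (X.presheaf.stalk x)).comap (X.presheaf.germ V x hx).hom

instance {V : X.Opens} (x : X) (hx : x ∈ V) : (primeAt x hx).IsPrime :=
  Ideal.comap_isPrime _ _

lemma notMem_primeAt_iff {V : X.Opens} {x : X} {hx : x ∈ V} {c : Γ(X, V)} :
    c ∉ primeAt x hx ↔ x ∈ X.basicOpen c := by
  rw [Scheme.mem_basicOpen _ c x hx, primeAt, Ideal.mem_comap, IsLocalRing.notMem_maximalIdeal]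

/-- The annihilator of a section. -/
noncomputable def annSec {V : X.Opens} (z : Γ(F, V)) : Ideal Γ(X, V) :=
  LinearMap.ker (LinearMap.toSpanSingleton Γ(X, V) Γ(F, V) z)

lemma mem_annSec {V : X.Opens} {z : Γ(F, V)} {a : Γ(X, V)} : a ∈ annSec z ↔ a • z = 0 := by
  simp [annSec, LinearMap.mem_ker]

section Affine

variable {V : X.Opens} (hV : IsAffineOpen V) [hF : F.IsQuasicoherent] {x : X} (hx : x ∈ V)

include hV in
lemma germ_eq_zero_iff (z : Γ(F, V)) :
    F.presheaf.germ V x hx z = 0 ↔ ∃ c ∉ primeAt x hx, c • z = 0 := by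
  constructor
  · intro h
    obtain ⟨W, hxW, iU, iV, e⟩ := TopCat.Presheaf.germ_eq F.presheaf x hx hx z 0
      (h.trans (map_zero _).symm)
    rw [map_zero] at e
    obtain ⟨g, hgW, hxg⟩ := hV.exists_basicOpen_le (⟨x, hxW⟩ : W) hx
    have hg : F.presheaf.map (homOfLE (X.basicOpen_le g)).op z = 0 := by
      rw [show (homOfLE (X.basicOpen_le g)).op = iU.op ≫ (homOfLE hgW).op from rfl, Functor.map_comp,
        CategoryTheory.comp_apply, e, map_zero]
    obtain ⟨n, hn⟩ := (QCoh.smulLift_and_smulSep_of_isAffineOpen hV F g).2 z hg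
    exact ⟨g ^ n, fun hm => notMem_primeAt_iff.mpr hxg (Ideal.IsPrime.mem_of_pow_mem inferInstance n hm), hn⟩
  · rintro ⟨c, hc, hcz⟩
    have hu : IsUnit (X.presheaf.germ V x hx c) :=
      (Scheme.mem_basicOpen _ c x hx).mp (notMem_primeAt_iff.mp hc)
    have := germ_smul hx c z
    rw [hcz, map_zero] at this
    exact hu.smul_eq_zero.mp this.symm

include hV in
lemma exists_smul_eq_germ (m : F.presheaf.stalk x) :
    ∃ (c : Γ(X, V)) (z : Γ(F, V)), c ∉ primeAt x hx ∧
      X.presheaf.germ V x hx c • m = F.presheaf.germ V x hx z := by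
  obtain ⟨W, hxW, s, rfl⟩ := TopCat.Presheaf.exists_germ_eq F.presheaf m
  obtain ⟨g, hgW, hxg⟩ := hV.exists_basicOpen_le (⟨x, hxW⟩ : W) hx
  obtain ⟨n, t, ht⟩ := (QCoh.smulLift_and_smulSep_of_isAffineOpen hV F g).1
    (F.presheaf.map (homOfLE hgW).op s)
  refine ⟨g ^ n, t, fun hm => notMem_primeAt_iff.mpr hxg (Ideal.IsPrime.mem_of_pow_mem inferInstance n hm), ?_⟩
  rw [← TopCat.Presheaf.germ_res_apply F.presheaf (homOfLE (X.basicOpen_le g)) x hxg t, ht,
    germ_smul, TopCat.Presheaf.germ_res_apply, map_pow, map_pow, TopCat.Presheaf.germ_res_apply]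

include hV in
/-- The radical of the annihilator of a germ is maximal iff the point is minimal over the
annihilator of the section. -/
lemma radical_eq_iff_minimal (z : Γ(F, V)) :
    Ideal.radical (LinearMap.ker (LinearMap.toSpanSingleton (X.presheaf.stalk x) (F.presheaf.stalk x)
      (F.presheaf.germ V x hx z))) = IsLocalRing.maximalIdeal (X.presheaf.stalk x) ↔
    primeAt x hx ∈ (annSec z).minimalPrimes := by
  set K := LinearMap.ker (LinearMap.toSpanSingleton (X.presheaf.stalk x) (F.presheaf.stalk x)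
      (F.presheaf.germ V x hx z))
  have hK : ∀ r, r ∈ K ↔ r • F.presheaf.germ V x hx z = 0 := fun r => by simp [K, LinearMap.mem_ker]
  constructor
  · intro h
    have hz : F.presheaf.germ V x hx z ≠ 0 := by
      intro h0
      have : (1 : X.presheaf.stalk x) ∈ IsLocalRing.maximalIdeal (X.presheaf.stalk x) :=
        h ▸ Ideal.le_radical ((hK 1).mpr (by rw [h0, smul_zero]))
      exact (Ideal.ne_top_iff_one _).mp (IsLocalRing.maximalIdeal.isMaximal _).ne_top this
    refine ⟨⟨inferInstance, fun a ha => ?_⟩, ?_⟩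
    · by_contra hap
      exact hz ((germ_eq_zero_iff hV hx z).mpr ⟨a, hap, mem_annSec.mp ha⟩)
    · rintro q ⟨hq, hqa⟩ hqp a ha
      have : X.presheaf.germ V x hx a ∈ Ideal.radical K := by rw [h]; exact ha
      obtain ⟨n, hn⟩ := this
      rw [← map_pow, hK, ← germ_smul, germ_eq_zero_iff hV hx] at hn
      obtain ⟨c, hc, hcz⟩ := hn
      rw [← mul_smul] at hcz
      exact Ideal.IsPrime.mem_of_pow_mem hq n
        ((hq.mem_or_mem (hqa (mem_annSec.mpr hcz))).resolve_left fun hcq => hc (hqp hcq))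
  · intro h
    refine le_antisymm ((Ideal.IsPrime.radical_le_iff inferInstance).mpr fun r hr => ?_) fun r hr => ?_
    · by_contra hu
      rw [IsLocalRing.notMem_maximalIdeal] at hu
      obtain ⟨c, hc, hcz⟩ := (germ_eq_zero_iff hV hx z).mp (hu.smul_eq_zero.mp ((hK r).mp hr))
      exact hc (h.1.2 (mem_annSec.mpr hcz))
    · let algX : Algebra Γ(X, V) (X.presheaf.stalk x) :=
        TopCat.Presheaf.algebra_section_stalk X.presheaf (⟨x, hx⟩ : V)
      have hloc : IsLocalization.AtPrime (X.presheaf.stalk x) (hV.primeIdealOf ⟨x, hx⟩).asIdeal :=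
        hV.isLocalization_stalk ⟨x, hx⟩
      obtain ⟨a, s, rfl⟩ := IsLocalization.exists_mk'_eq
        (hV.primeIdealOf ⟨x, hx⟩).asIdeal.primeCompl r
      have ha : a ∈ primeAt x hx := by
        have := (IsLocalRing.maximalIdeal (X.presheaf.stalk x)).mul_mem_right (algebraMap Γ(X, V) _ (s : Γ(X, V))) hr
        rw [IsLocalization.mk'_spec] at this
        exact this
      by_contra hnr
      let M : Submonoid Γ(X, V) := (primeAt x hx).primeCompl ⊔ Submonoid.powers a
      have hdisj : Disjoint (annSec z : Set Γ(X, V)) M := by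
        rw [Set.disjoint_left]
        intro w hw hwM
        obtain ⟨c, hc, _, ⟨n, rfl⟩, rfl⟩ := Submonoid.mem_sup.mp hwM
        refine hnr ?_
        rw [IsLocalization.mk'_eq_mul_mk'_one]
        refine Ideal.mul_mem_right _ _ ⟨n, (hK _).mpr ?_⟩
        have hu : IsUnit (X.presheaf.germ V x hx c) :=
          (Scheme.mem_basicOpen _ c x hx).mp (notMem_primeAt_iff.mp hc)
        refine hu.smul_eq_zero.mp ?_
        show _ • (X.presheaf.germ V x hx a) ^ n • _ = _
        rw [← map_pow, ← mul_smul, ← map_mul, ← germ_smul, mem_annSec.mp hw, map_zero]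
      obtain ⟨q, hq, hqa, hqM⟩ := Ideal.exists_le_prime_disjoint _ _ hdisj
      have hqp : q ≤ primeAt x hx := fun w hw => by
        by_contra hwp
        exact Set.disjoint_left.mp hqM hw (Submonoid.mem_sup_left hwp)
      exact Set.disjoint_left.mp hqM (h.2 ⟨hq, hqa⟩ hqp ha)
        (Submonoid.mem_sup_right (Submonoid.mem_powers a))

end Affine

variable [hF : F.IsQuasicoherent]

lemma primeAt_fromSpec {V : X.Opens} (hV : IsAffineOpen V) (q : PrimeSpectrum Γ(X, V))
    (hx : hV.fromSpec q ∈ V) : primeAt (hV.fromSpec q) hx = q.asIdeal := by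
  ext c
  rw [← not_iff_not, notMem_primeAt_iff]
  show q ∈ hV.fromSpec ⁻¹ᵁ X.basicOpen c ↔ _
  rw [hV.fromSpec_preimage_basicOpen]
  rfl

lemma fromSpec_mem {V : X.Opens} (hV : IsAffineOpen V) (q : PrimeSpectrum Γ(X, V)) :
    hV.fromSpec q ∈ V := by
  rw [← SetLike.mem_coe, ← hV.range_fromSpec]
  exact ⟨q, rfl⟩

lemma isWeakAssPoint_of_minimal {V : X.Opens} (hV : IsAffineOpen V) {x : X} {hx : x ∈ V}
    (z : Γ(F, V)) (h : primeAt x hx ∈ (annSec z).minimalPrimes) : Curv2.IsWeakAssPoint F x :=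
  ⟨_, (radical_eq_iff_minimal hV hx z).mpr h⟩

lemma exists_minimal_of_isWeakAssPoint {V : X.Opens} (hV : IsAffineOpen V) {x : X} (hx : x ∈ V)
    (h : Curv2.IsWeakAssPoint F x) :
    ∃ z : Γ(F, V), primeAt x hx ∈ (annSec z).minimalPrimes := by
  obtain ⟨m, hm⟩ := h
  obtain ⟨c, z, hc, hz⟩ := exists_smul_eq_germ hV hx m
  refine ⟨z, (radical_eq_iff_minimal hV hx z).mp ?_⟩
  rw [← hm, ← hz]
  congr 1
  ext r
  have hu : IsUnit (X.presheaf.germ V x hx c) :=
    (Scheme.mem_basicOpen _ c x hx).mp (notMem_primeAt_iff.mp hc)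
  rw [LinearMap.mem_ker, LinearMap.mem_ker, LinearMap.toSpanSingleton_apply,
    LinearMap.toSpanSingleton_apply, smul_comm, hu.smul_eq_zero]

/-- A nonzero section on an affine open has a nonzero germ at some weakly associated point. -/
theorem exists_isWeakAssPoint {V : X.Opens} (hV : IsAffineOpen V) {z : Γ(F, V)} (hz : z ≠ 0) :
    ∃ (x : X) (hx : x ∈ V), Curv2.IsWeakAssPoint F x ∧ F.presheaf.germ V x hx z ≠ 0 := by
  have hne : annSec z ≠ ⊤ := fun h => hz (by simpa using mem_annSec.mp (h ▸ Submodule.mem_top : (1 : Γ(X, V)) ∈ annSec z))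
  obtain ⟨p, hp⟩ := Ideal.nonempty_minimalPrimes hne
  refine ⟨hV.fromSpec ⟨p, hp.1.1⟩, fromSpec_mem hV _, ?_, ?_⟩
  · exact isWeakAssPoint_of_minimal hV z (hx := fromSpec_mem hV _) (by rw [primeAt_fromSpec]; exact hp)
  · intro h
    obtain ⟨c, hc, hcz⟩ := (germ_eq_zero_iff hV _ z).mp h
    rw [primeAt_fromSpec] at hc
    exact hc (hp.1.2 (mem_annSec.mpr hcz))

/-- A section vanishing at all weakly associated points vanishes. -/
theorem eq_zero_of_germ {W : X.Opens} (s : Γ(F, W))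
    (h : ∀ (x : X) (hx : x ∈ W), Curv2.IsWeakAssPoint F x → F.presheaf.germ W x hx s = 0) :
    s = 0 := by
  refine TopCat.Presheaf.section_ext ⟨F.presheaf, F.isSheaf⟩ W s 0 fun x hx => ?_
  obtain ⟨_, ⟨V, hV, rfl⟩, hxV, hVW⟩ :=
    X.isBasis_affineOpens.exists_subset_of_mem_open (SetLike.mem_coe.2 hx) W.2
  have h0 : F.presheaf.map (homOfLE hVW).op s = 0 := by
    by_contra hne
    obtain ⟨y, hy, hw, hg⟩ := exists_isWeakAssPoint hV hne
    erw [TopCat.Presheaf.germ_res_apply] at hg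
    exact hg (h y (hVW hy) hw)
  show F.presheaf.germ W x hx s = F.presheaf.germ W x hx 0
  erw [map_zero, ← TopCat.Presheaf.germ_res_apply F.presheaf (homOfLE hVW) x hxV s, h0, map_zero]

omit hF in
lemma not_isWeakAssPoint_of_subsingleton {x : X} [Subsingleton (F.presheaf.stalk x)] :
    ¬ Curv2.IsWeakAssPoint F x := by
  rintro ⟨m, hm⟩
  have h1 : (1 : X.presheaf.stalk x) ∈ IsLocalRing.maximalIdeal (X.presheaf.stalk x) :=
    hm ▸ Ideal.le_radical (by rw [LinearMap.mem_ker]; exact Subsingleton.elim _ _)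
  exact (Ideal.ne_top_iff_one _).mp (IsLocalRing.maximalIdeal.isMaximal _).ne_top h1

/-- A point of the support with no proper generisation in the support is weakly associated. -/
theorem isWeakAssPoint_of_maximal {x : X} (hx : x ∈ CohB1.support F)
    (hmax : ∀ y : X, y ∈ CohB1.support F → y ⤳ x → y = x) : Curv2.IsWeakAssPoint F x := by
  obtain ⟨_, ⟨V, hV, rfl⟩, hxV, -⟩ :=
    X.isBasis_affineOpens.exists_subset_of_mem_open (Set.mem_univ x) isOpen_univ
  have hns : Nontrivial (F.presheaf.stalk x) := not_subsingleton_iff_nontrivial.mp hx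
  obtain ⟨m, hm⟩ := exists_ne (0 : F.presheaf.stalk x)
  obtain ⟨c, z, hc, hz⟩ := exists_smul_eq_germ hV hxV m
  have hu : IsUnit (X.presheaf.germ V x hxV c) :=
    (Scheme.mem_basicOpen _ c x hxV).mp (notMem_primeAt_iff.mp hc)
  have hzne : F.presheaf.germ V x hxV z ≠ 0 := fun h0 => hm (hu.smul_eq_zero.mp (hz.trans h0))
  refine isWeakAssPoint_of_minimal hV z (hx := hxV) ⟨⟨inferInstance, fun a ha => ?_⟩, ?_⟩
  · by_contra hap
    exact hzne ((germ_eq_zero_iff hV hxV z).mpr ⟨a, hap, mem_annSec.mp ha⟩)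
  rintro q ⟨hq, hqa⟩ hqp
  let Q : PrimeSpectrum Γ(X, V) := ⟨q, hq⟩
  have hyV := fromSpec_mem hV Q
  have hsupp : hV.fromSpec Q ∈ CohB1.support F := by
    intro hsub
    obtain ⟨d, hd, hdz⟩ := (germ_eq_zero_iff hV hyV z).mp (@Subsingleton.elim _ hsub _ _)
    rw [primeAt_fromSpec] at hd
    exact hd (hqa (mem_annSec.mpr hdz))
  obtain ⟨P, hP⟩ : x ∈ Set.range hV.fromSpec := hV.range_fromSpec.ge hxV
  have hPp : P.asIdeal = primeAt x hxV := by
    subst hP
    exact (primeAt_fromSpec hV P hxV).symm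
  have hspec : hV.fromSpec Q ⤳ x := hP ▸ ((PrimeSpectrum.le_iff_specializes Q P).mp
    (hPp.symm ▸ hqp : Q.asIdeal ≤ P.asIdeal)).map hV.fromSpec.continuous
  have : Q = P := hV.fromSpec.isOpenEmbedding.injective ((hmax _ hsupp hspec).trans hP.symm)
  exact (hPp.symm.trans (congrArg PrimeSpectrum.asIdeal this.symm)).le

end GrothLib.WeakAss
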