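import Groth.Prelude.Def_Coh
import Groth.Agent.Lib.WeakAss.Basic

/-!
# Weakly associated points of the structure sheaf
-/

universe u

open CategoryTheory AlgebraicGeometry Opposite

namespace GrothLib.WeakAss

variable {X : Scheme.{u}}

/-- A function, as a section of the structure module. -/
noncomputable def toModSec {W : X.Opens} (s : Γ(X, W)) : Γ(Coh.structureModule X, W) := s

instance isQuasicoherent_structureModule : (Coh.structureModule X).IsQuasicoherent := by
  rw [QCoh.isQuasicoherent_iff_smulLift_smulSep]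
  intro U hU g
  have := hU.isLocalization_basicOpen g
  constructor
  · intro s
    obtain ⟨s', rfl⟩ : ∃ s' : Γ(X, X.basicOpen g), toModSec s' = s := ⟨s, rfl⟩
    obtain ⟨⟨a, _, n, rfl⟩, e⟩ := IsLocalization.surj (Submonoid.powers g) s'
    refine ⟨n, toModSec a, ?_⟩
    change algebraMap Γ(X, U) Γ(X, X.basicOpen g) a = (algebraMap Γ(X, U) Γ(X, X.basicOpen g) g) ^ n * s'
    rw [← e, mul_comm, map_pow]
  · intro t ht
    obtain ⟨⟨_, n, rfl⟩, e⟩ := (IsLocalization.map_eq_zero_iff (Submonoid.powers g)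
      Γ(X, X.basicOpen g) (t : Γ(X, U))).mp ht
    exact ⟨n, e⟩

lemma mem_annSec_structure {V : X.Opens} {z : Γ(X, V)} {a : Γ(X, V)} :
    a ∈ annSec (toModSec z) ↔ a * z = 0 :=
  mem_annSec

/-- On a reduced scheme the weakly associated points of the structure sheaf are the maximal points. -/
theorem isWeakAssPoint_structure_iff [IsReduced X] (x : X) :
    Curv2.IsWeakAssPoint (Coh.structureModule X) x ↔ ∀ y : X, y ⤳ x → y = x := by
  obtain ⟨_, ⟨V, hV, rfl⟩, hxV, -⟩ :=
    X.isBasis_affineOpens.exists_subset_of_mem_open (Set.mem_univ x) isOpen_univ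
  constructor
  · intro h y hy
    obtain ⟨z₀, hz⟩ := exists_minimal_of_isWeakAssPoint hV hxV h
    obtain ⟨z, rfl⟩ : ∃ z : Γ(X, V), toModSec z = z₀ := ⟨z₀, rfl⟩
    have hyV : y ∈ V := hy.mem_open V.2 hxV
    obtain ⟨Q, rfl⟩ := hV.range_fromSpec.ge hyV
    obtain ⟨P, rfl⟩ := hV.range_fromSpec.ge hxV
    congr 1
    have hPp := primeAt_fromSpec hV P hxV
    rw [hPp] at hz
    have hle : Q.asIdeal ≤ P.asIdeal := (PrimeSpectrum.le_iff_specializes Q P).mpr
      (hV.fromSpec.isOpenEmbedding.isInducing.specializes_iff.mp hy)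
    by_contra hne
    have hzq : ∀ q : Ideal Γ(X, V), q.IsPrime → q ≤ P.asIdeal → (z : Γ(X, V)) ∈ q := by
      intro q hq hqP
      by_contra hzn
      have hann : annSec (toModSec z) ≤ q := fun a ha => (hq.mem_or_mem
        (show a * (z : Γ(X, V)) ∈ q by rw [mem_annSec_structure.mp ha]; exact zero_mem _)).resolve_right hzn
      have hPq : P.asIdeal ≤ q := hz.2 ⟨hq, hann⟩ hqP
      by_cases hzQ : (z : Γ(X, V)) ∈ Q.asIdeal
      · exact hzn (hPq (hle hzQ))
      · have hann' : annSec (toModSec z) ≤ Q.asIdeal := fun a ha => (Q.isPrime.mem_or_mem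
          (show a * (z : Γ(X, V)) ∈ Q.asIdeal by rw [mem_annSec_structure.mp ha]; exact zero_mem _)).resolve_right hzQ
        exact hne (PrimeSpectrum.ext (le_antisymm hle (hz.2 ⟨Q.isPrime, hann'⟩ hle)))
    let M : Submonoid Γ(X, V) := P.asIdeal.primeCompl ⊔ Submonoid.powers (z : Γ(X, V))
    have hzero : (0 : Γ(X, V)) ∈ M := by
      by_contra h0
      have hdisj : Disjoint ((⊥ : Ideal Γ(X, V)) : Set Γ(X, V)) M := by
        rw [Set.disjoint_left]
        intro w hw
        rw [Ideal.mem_bot.mp hw]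
        exact h0
      obtain ⟨q, hq, -, hqM⟩ := Ideal.exists_le_prime_disjoint _ _ hdisj
      refine Set.disjoint_left.mp hqM (hzq q hq fun w hw => ?_) (Submonoid.mem_sup_right (Submonoid.mem_powers _))
      by_contra hwP
      exact Set.disjoint_left.mp hqM hw (Submonoid.mem_sup_left hwP)
    obtain ⟨c, hc, _, ⟨n, rfl⟩, hcn⟩ := Submonoid.mem_sup.mp hzero
    have hred : _root_.IsReduced Γ(X, V) := IsReduced.component_reduced V
    have hnil : c * (z : Γ(X, V)) = 0 := by
      refine IsNilpotent.eq_zero ⟨n + 1, ?_⟩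
      calc (c * (z : Γ(X, V))) ^ (n + 1)
          = c ^ n * (z : Γ(X, V)) * (c * (z : Γ(X, V)) ^ n) := by ring
        _ = 0 := by rw [hcn, mul_zero]
    exact hc (hz.1.2 (mem_annSec_structure.mpr hnil))
  · intro h
    refine isWeakAssPoint_of_maximal ?_ fun y _ hy => h y hy
    intro hsub
    obtain ⟨c, hc, hc0⟩ := (germ_eq_zero_iff hV hxV
      (toModSec (1 : Γ(X, V)))).mp (@Subsingleton.elim _ hsub _ _)
    have : c = 0 := by
      rw [← mul_one c]
      exact hc0
    exact hc (this ▸ zero_mem _)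

end GrothLib.WeakAss

namespace GrothLib.WeakAss

lemma exists_affine_le {X : Scheme.{u}} {W : X.Opens} {x : X} (hx : x ∈ W) :
    ∃ V : X.affineOpens, x ∈ V.1 ∧ V.1 ≤ W := by
  obtain ⟨_, ⟨V, hV, rfl⟩, hxV, hVW⟩ :=
    X.isBasis_affineOpens.exists_subset_of_mem_open (SetLike.mem_coe.2 hx) W.2
  exact ⟨⟨V, hV⟩, hxV, hVW⟩

end GrothLib.WeakAss
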