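import Groth.Agent.Lib.WeakAss.Basic
import Groth.Agent.Lib.QCoh.Extension
import Groth.Agent.Lib.QCoh.Qcqs

/-!
# Weakly associated points: short exact sequences and affine pushforward
-/

universe u

open CategoryTheory AlgebraicGeometry Opposite

namespace GrothLib.WeakAss

variable {X : Scheme.{u}}

/-- The map on stalks, as a linear map. -/
noncomputable def stalkLinear {F G : X.Modules} (φ : F ⟶ G) (x : X) :
    F.presheaf.stalk x →ₗ[X.presheaf.stalk x] G.presheaf.stalk x where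
  toFun := (TopCat.Presheaf.stalkFunctor AddCommGrpCat.{u} x).map φ.mapPresheaf
  map_add' := map_add _
  map_smul' r m := by
    obtain ⟨W, hxW, r, rfl⟩ := X.presheaf.exists_germ_eq r
    obtain ⟨W', hxW', m, rfl⟩ := TopCat.Presheaf.exists_germ_eq F.presheaf m
    rw [← TopCat.Presheaf.germ_res_apply X.presheaf (homOfLE (inf_le_left : W ⊓ W' ≤ W)) x ⟨hxW, hxW'⟩ r,
      ← TopCat.Presheaf.germ_res_apply F.presheaf (homOfLE (inf_le_right : W ⊓ W' ≤ W')) x ⟨hxW, hxW'⟩ m,
      ← germ_smul]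
    erw [TopCat.Presheaf.stalkFunctor_map_germ_apply, TopCat.Presheaf.stalkFunctor_map_germ_apply]
    erw [Scheme.Modules.Hom.app_smul, germ_smul]
    rfl

lemma stalkLinear_germ {F G : X.Modules} (φ : F ⟶ G) {W : X.Opens} {x : X} (hx : x ∈ W)
    (s : Γ(F, W)) :
    stalkLinear φ x (F.presheaf.germ W x hx s) = G.presheaf.germ W x hx (φ.app W s) :=
  TopCat.Presheaf.stalkFunctor_map_germ_apply W x hx φ.mapPresheaf s

variable {S : ShortComplex X.Modules} (hS : S.ShortExact) (x : X)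

include hS in
lemma stalkLinear_injective : Function.Injective (stalkLinear S.f x) := by
  rw [injective_iff_map_eq_zero]
  intro m hm
  obtain ⟨W, hxW, s, rfl⟩ := TopCat.Presheaf.exists_germ_eq S.X₁.presheaf m
  rw [stalkLinear_germ] at hm
  obtain ⟨W', hxW', iU, iV, e⟩ := TopCat.Presheaf.germ_eq S.X₂.presheaf x hxW hxW _ 0
    (hm.trans (map_zero _).symm)
  have h0 : S.X₁.presheaf.map iU.op s = 0 := by
    apply QCoh.app_injective hS W'
    rw [← QCoh.map_app]
    exact (e.trans (map_zero _)).trans (map_zero _).symm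
  rw [← TopCat.Presheaf.germ_res_apply S.X₁.presheaf iU x hxW' s, h0, map_zero]

include hS in
lemma stalkLinear_exact (m : S.X₂.presheaf.stalk x) (hm : stalkLinear S.g x m = 0) :
    ∃ a, stalkLinear S.f x a = m := by
  obtain ⟨W, hxW, s, rfl⟩ := TopCat.Presheaf.exists_germ_eq S.X₂.presheaf m
  rw [stalkLinear_germ] at hm
  obtain ⟨W', hxW', iU, iV, e⟩ := TopCat.Presheaf.germ_eq S.X₃.presheaf x hxW hxW _ 0
    (hm.trans (map_zero _).symm)
  obtain ⟨a, ha⟩ := QCoh.app_exact hS W' (S.X₂.presheaf.map iU.op s)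
    (by rw [← QCoh.map_app]; exact e.trans (map_zero _))
  exact ⟨S.X₁.presheaf.germ W' x hxW' a, by rw [stalkLinear_germ, ha, TopCat.Presheaf.germ_res_apply]⟩

include hS in
theorem weakAss_of_shortExact :
    (Curv2.IsWeakAssPoint S.X₂ x → Curv2.IsWeakAssPoint S.X₁ x ∨ Curv2.IsWeakAssPoint S.X₃ x) ∧
      (Curv2.IsWeakAssPoint S.X₁ x → Curv2.IsWeakAssPoint S.X₂ x) := by
  refine ⟨fun ⟨m, hm⟩ => ?_, fun ⟨m, hm⟩ => ⟨stalkLinear S.f x m, ?_⟩⟩
  · set K := LinearMap.ker (LinearMap.toSpanSingleton (X.presheaf.stalk x) (S.X₂.presheaf.stalk x) m)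
    by_cases hcase : ∃ r : X.presheaf.stalk x, stalkLinear S.g x (r • m) = 0 ∧ r • m ≠ 0
    · left
      obtain ⟨r, hr, hne⟩ := hcase
      obtain ⟨a, ha⟩ := stalkLinear_exact hS x _ hr
      refine ⟨a, le_antisymm ((Ideal.IsPrime.radical_le_iff inferInstance).mpr ?_) ?_⟩
      · refine IsLocalRing.le_maximalIdeal fun htop => hne ?_
        have h1 : (1 : X.presheaf.stalk x) ∈
            LinearMap.ker (LinearMap.toSpanSingleton (X.presheaf.stalk x) (S.X₁.presheaf.stalk x) a) :=
          htop ▸ Submodule.mem_top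
        rw [LinearMap.mem_ker, LinearMap.toSpanSingleton_apply, one_smul] at h1
        rw [← ha, h1, map_zero]
      · rw [← hm]
        refine Ideal.radical_mono fun t ht => ?_
        rw [LinearMap.mem_ker, LinearMap.toSpanSingleton_apply] at ht ⊢
        apply stalkLinear_injective hS x
        rw [map_smul, ha, map_zero, smul_comm, ht, smul_zero]
    · right
      refine ⟨stalkLinear S.g x m, ?_⟩
      rw [← hm]
      congr 1
      ext t
      rw [LinearMap.mem_ker, LinearMap.mem_ker, LinearMap.toSpanSingleton_apply,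
        LinearMap.toSpanSingleton_apply, ← map_smul]
      refine ⟨fun h => ?_, fun h => by rw [h, map_zero]⟩
      by_contra hne
      exact hcase ⟨t, h, hne⟩
  · rw [← hm]
    congr 1
    ext t
    rw [LinearMap.mem_ker, LinearMap.mem_ker, LinearMap.toSpanSingleton_apply,
      LinearMap.toSpanSingleton_apply, ← map_smul,
      map_eq_zero_iff _ (stalkLinear_injective hS x)]

/-- Weakly associated points of an affine direct image come from weakly associated points. -/
theorem weakAss_pushforward {T : Scheme.{u}} (f : X ⟶ T) [IsAffineHom f] (F : X.Modules)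
    [F.IsQuasicoherent] (s : T)
    (hs : Curv2.IsWeakAssPoint ((Scheme.Modules.pushforward f).obj F) s) :
    ∃ x : X, f x = s ∧ Curv2.IsWeakAssPoint F x := by
  have := QCoh.isQuasicoherent_pushforward f F
  obtain ⟨_, ⟨U, hU, rfl⟩, hsU, -⟩ :=
    T.isBasis_affineOpens.exists_subset_of_mem_open (Set.mem_univ s) isOpen_univ
  obtain ⟨z, hz⟩ := exists_minimal_of_isWeakAssPoint hU hsU hs
  obtain ⟨z, rfl⟩ : ∃ w : Γ(F, f ⁻¹ᵁ U), (show Γ((Scheme.Modules.pushforward f).obj F, U) from w) = z :=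
    ⟨z, rfl⟩
  have hV : IsAffineOpen (f ⁻¹ᵁ U) := hU.preimage f
  have hcomap : (annSec (X := X) (F := F) z).comap (f.app U).hom =
      annSec (X := T) (F := (Scheme.Modules.pushforward f).obj F) z := by
    ext a
    rw [Ideal.mem_comap, mem_annSec, mem_annSec]
    rfl
  rw [← hcomap] at hz
  obtain ⟨q, hq, hqp⟩ := Ideal.exists_minimalPrimes_comap_eq _ _ hz
  set x := hV.fromSpec ⟨q, hq.1.1⟩
  have hxV : x ∈ f ⁻¹ᵁ U := fromSpec_mem hV _
  refine ⟨x, ?_, isWeakAssPoint_of_minimal hV z (hx := hxV) (by rw [primeAt_fromSpec]; exact hq)⟩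
  obtain ⟨P, hP⟩ := hU.range_fromSpec.ge (show f x ∈ U from hxV)
  obtain ⟨Q, hQ⟩ := hU.range_fromSpec.ge hsU
  have hPQ : P = Q := by
    refine PrimeSpectrum.ext ?_
    ext c
    rw [← not_iff_not]
    subst hQ
    rw [show (c ∉ P.asIdeal ↔ f x ∈ T.basicOpen c) from
        hP ▸ (show _ ↔ P ∈ hU.fromSpec ⁻¹ᵁ T.basicOpen c by rw [hU.fromSpec_preimage_basicOpen]; rfl),
      ← primeAt_fromSpec hU Q hsU, ← hqp, Ideal.mem_comap,
      show q = primeAt x hxV from (primeAt_fromSpec hV ⟨q, hq.1.1⟩ hxV).symm,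
      notMem_primeAt_iff, ← Scheme.preimage_basicOpen]
    rfl
  rw [← hP, hPQ, hQ]

end GrothLib.WeakAss
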